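import Cfsg.Agent.H85.OmegaSeven.Three
import Cfsg.Agent.H85.OddSubfield.Main
import Cfsg.Agent.H98.OrthMax.Point
import Cfsg.Agent.H98.OrthMax.TotSing
import Cfsg.Agent.Orthogonal.StdForms
import Cfsg.Agent.H97.OmegaEight.Eight

/-!
Subspace stabilisers of `Ω₇(q)`, `q` odd.
-/

set_option autoImplicit false

namespace Cfsg.Agent.H85.OmegaSeven

open QuadraticMap Module Cfsg.Agent.Orthogonal Cfsg.Agent.H98.OrthMax Cfsg.Agent.H97.OmegaEight

variable {F : Type*} [Field F] [Fintype F] {ι : Type} [Fintype ι] [DecidableEq ι] {Q : QuadraticForm F (ι → F)}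

/-- Nondegenerate subspaces of even dimension of a seven-space. -/
theorem isMaximalIn_even (hQ : Nondeg Q) (h2 : (2 : F) ≠ 0) (hn : finrank F (ι → F) = 7)
    {W : Submodule F (ι → F)} (hW0 : W ≠ ⊥) (hW : Nondeg (restr Q W)) (heven : Even (finrank F W))
    (hex : finrank F W = 2 → (∃ x ∈ W, x ≠ 0 ∧ Q x = 0) → 4 ≤ Fintype.card F) :
    Cfsg.Geo.IsMaximalIn (Cfsg.Geo.omegaGL ⇑Q) (Cfsg.Geo.subspaceStabilizer W ⊓ Cfsg.Geo.omegaGL ⇑Q) := by
  have hr := hQ.finrank_add_perp W
  have hpos : 0 < finrank F W := Nat.pos_of_ne_zero fun h => hW0 (Submodule.finrank_eq_zero.1 h)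
  obtain ⟨j, hj⟩ := heven
  rcases (show finrank F W = 2 ∨ finrank F W = 4 ∨ finrank F W = 6 by omega) with h | h | h
  · exact isMaximalIn_nondeg_plane hQ (by omega) hW0 hW (by omega) (fun h' => by omega)
      (hasSingularPlane_of_five (hQ.nondeg_perp hW) (by omega)) (no_plane_of_le_three hW (by omega)) hex
  · rw [← stabilizer_inf_omega_perp hQ W]
    exact isMaximalIn_three hQ h2 hn (hQ.nondeg_perp hW) (by omega)
  · rw [← stabilizer_inf_omega_perp hQ W]
    have hT := hQ.nondeg_perp hW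
    obtain ⟨v, hv, hv0⟩ := Submodule.exists_mem_ne_zero_of_ne_bot (p := perp Q W) fun e => by
      rw [e, finrank_bot] at hr; omega
    have hTv : perp Q W = Submodule.span F {v} :=
      (Submodule.eq_of_le_of_finrank_le (by simpa using hv) (by rw [finrank_span_singleton hv0]; omega)).symm
    rw [hTv]
    refine isMaximalIn_point hQ (by omega) fun hQv => ?_
    obtain ⟨f, hf, hvf⟩ := hT.exists_partner (u := ⟨v, hv⟩) (fun e => hv0 (congrArg Subtype.val e)) hQv
    have h3 := finrank_hyperbolic_plane (Q := restr Q (perp Q W)) hQv hf hvf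
    have h4 := Submodule.finrank_le (Submodule.span F ({(⟨v, hv⟩ : perp Q W), f} : Set (perp Q W)))
    omega

end Cfsg.Agent.H85.OmegaSeven
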