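import Cfsg.Agent.H97.OmegaEight.Nondeg
import Cfsg.Agent.H98.SubfieldOrth.Basic

/-!
Stabilisers in Ω of complementary nondegenerate subspaces of dimensions three and four are maximal.
-/

set_option autoImplicit false

namespace Cfsg.Agent.H85.OmegaSeven

open QuadraticMap Module Cfsg.Agent.Orthogonal Cfsg.Agent.H98.OrthMax Cfsg.Agent.H97.OmegaEight
open Cfsg.Agent.H98.SubfieldOrth (SIn le_of_singular)

section Abstract

variable {F V : Type*} [Field F] [Fintype F] [AddCommGroup V] [Module F V] [FiniteDimensional F V]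
  {Q : QuadraticForm F V} {X : Subgroup (O Q)} {W : Submodule F V}

omit [Fintype F] [FiniteDimensional F V] in
/-- Conjugating a root element by one with centre on the line. -/
theorem sIn_long {u b p c : V} (h : SIn X u b) (h' : SIn X p c) (hup : polar Q u p = 0)
    (hbp : polar Q b p = 0) :
    (polar Q c u ≠ 0 → SIn X u ((-(2 * Q b) * polar Q c u) • p)) ∧
    (polar Q c u = 0 → SIn X u (polar Q c b • p)) := by
  obtain ⟨hu, hub, hx⟩ := id h
  obtain ⟨hp, hpc, hy⟩ := id h'
  have e1 : (sie p c hp hpc : V ≃ₗ[F] V) u = u + polar Q c u • p := by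
    rw [sie_app, polar_comm (⇑Q) p u, hup]; module
  have e2 : (sie p c hp hpc : V ≃ₗ[F] V) b = b + polar Q c b • p := by
    rw [sie_app, polar_comm (⇑Q) p b, hbp]; module
  have h1 : SIn X (u + polar Q c u • p) (b + polar Q c b • p) := (h.conj hy).congr e1 e2
  refine ⟨fun hγ => ?_, fun hγ => ?_⟩
  · have hfix : (sie u b hu hub : V ≃ₗ[F] V) (u + polar Q c u • p) = u + polar Q c u • p := by
      rw [sie_app, polar_add_right, polar_smul_right', polar_comm (⇑Q) b u, hub, hbp, polar_add_right,
        polar_smul_right', hup, polar_self', hu]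
      module
    have hmove : (sie u b hu hub : V ≃ₗ[F] V) (b + polar Q c b • p) - (b + polar Q c b • p) = (2 * Q b) • u := by
      rw [sie_app, polar_add_right, polar_smul_right', polar_self', hbp, polar_add_right,
        polar_smul_right', hup, hub]
      module
    have h2 := (((h1.conj hx).congr hfix rfl).sub h1).congr rfl hmove
    have h3 := h2.swap hu (by rw [polar_add_left, polar_smul_left', polar_comm (⇑Q) p u, hup, polar_self', hu]; ring)
    exact (h3.add_smul (2 * Q b)).congr rfl (by module)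
  · exact ((h1.congr (by rw [hγ, zero_smul, add_zero]) rfl).sub h).congr rfl (by abel)

omit [Fintype F] in
/-- A subgroup containing the stabiliser of a three-space and moving it has a root element with centre in the
orthogonal four-space and vector in the three-space. -/
theorem exists_root_out_seven [Finite F] (hQ : Nondeg Q) (h2 : (2 : F) ≠ 0) (hn : finrank F V = 7)
    (hW : Nondeg (restr Q W)) (hd : finrank F W = 3)
    (hroot : ∀ u w (hu : Q u = 0) (hw : polar Q u w = 0),
      (u ∈ perp Q W ∧ w ∈ perp Q W) ∨ (u ∈ W ∧ w ∈ W) → sie u w hu hw ∈ X)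
    {g : O Q} (hgX : g ∈ X) (hgW : ∃ v ∈ W, (g : V ≃ₗ[F] V) v ∉ W) :
    ∃ u ∈ perp Q W, u ≠ 0 ∧ Q u = 0 ∧ ∃ v ∈ W, v ≠ 0 ∧ SIn X u v := by
  by_contra hout
  push Not at hout
  set U := perp Q W with hUdef
  have hU : Nondeg (restr Q U) := hQ.nondeg_perp hW
  have hdU : finrank F U = 4 := by have := hQ.finrank_add_perp W; rw [← hUdef, hd, hn] at this; omega
  have hdisj : ∀ x, x ∈ U → x ∈ W → x = 0 := fun x hx hx' => by
    have : x ∈ W ⊓ perp Q W := ⟨hx', hx⟩
    rwa [(nondeg_restr_iff W).1 hW, Submodule.mem_bot] at this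
  have hUW : ∀ {p q : V}, p ∈ U → q ∈ W → polar Q p q = 0 := fun hp hq => by rw [polar_comm]; exact hp _ hq
  have hdec : ∀ z : V, ∃ p ∈ U, ∃ q ∈ W, z = p + q := fun z => by
    obtain ⟨q, hq, p, hp, hqp⟩ := Submodule.mem_sup.1
      ((hQ.isCompl_perp hW).sup_eq_top ▸ Submodule.mem_top : z ∈ W ⊔ perp Q W)
    exact ⟨p, hp, q, hq, by rw [← hqp, add_comm]⟩
  have hsU : ∀ {u w : V}, u ∈ U → w ∈ U → Q u = 0 → polar Q u w = 0 → SIn X u w := fun h1 h3 h4 h5 =>
    ⟨h4, h5, hroot _ _ h4 h5 (Or.inl ⟨h1, h3⟩)⟩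
  have hno : ∀ {u : V}, u ∈ U → u ≠ 0 → Q u = 0 → ∀ {v : V}, SIn X u v → v ∈ U := by
    intro u hu hu0 hQu v hv
    obtain ⟨p, hp, q, hq, rfl⟩ := hdec v
    have hup : polar Q u p = 0 := by have := hv.orth; rwa [polar_add_right, hUW hu hq, add_zero] at this
    have hq0 : SIn X u q := (hv.sub (hsU hu hp hQu hup)).congr rfl (add_sub_cancel_left p q)
    by_contra hne
    exact hout u hu hu0 hQu q hq (fun e => hne (by rw [e, add_zero]; exact hp)) hq0
  have hconj : ∀ {y x : V}, y ∈ U → x ∈ U → Q y = 0 → polar Q y x = 0 →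
      SIn X ((g : V ≃ₗ[F] V) y) ((g : V ≃ₗ[F] V) x) := fun h1 h3 h4 h5 => (hsU h1 h3 h4 h5).conj hgX
  have hcommon : ∀ T : Submodule F V, T ≤ U → 3 ≤ finrank F T → ∃ t ∈ T, t ≠ 0 ∧ Q t = 0 := by
    intro T hT h3
    by_contra hcon
    push Not at hcon
    have hTa : Aniso Q T := fun x hx h => by_contra fun h0 => hcon x hx h0 h
    have hTn : Nondeg (restr Q T) := fun x hx => by
      by_contra h0
      have := hx x
      rw [polar_self', restr_apply] at this
      exact hcon x x.2 (fun e => h0 (Subtype.ext e)) ((mul_eq_zero.1 this).resolve_left h2)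
    have := finrank_le_two_of_aniso hTn hTa
    omega
  -- the centre of a conjugate never lies in the three-space
  have hC : ∀ y ∈ U, y ≠ 0 → Q y = 0 → (g : V ≃ₗ[F] V) y ∉ W := by
    intro y hy hy0 hQy hgy
    set p := (g : V ≃ₗ[F] V) y with hp
    have hp0 : p ≠ 0 := fun e => hy0 ((g : V ≃ₗ[F] V).map_eq_zero_iff.1 e)
    have hQp : Q p = 0 := by rw [hp, O.map_app]; exact hQy
    obtain ⟨x, hxU, hxy, hgx⟩ : ∃ x ∈ U, polar Q y x = 0 ∧ (g : V ≃ₗ[F] V) x ∉ W := by
      by_contra hcon
      push Not at hcon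
      have hle : (U ⊓ perp Q (Submodule.span F {y})).map ((g : V ≃ₗ[F] V) : V →ₗ[F] V) ≤ W := by
        rintro _ ⟨x, hx, rfl⟩
        exact hcon x hx.1 ((mem_perp_span_singleton Q).1 hx.2)
      have h3 : 3 ≤ finrank F ↥(U ⊓ perp Q (Submodule.span F {y})) := by
        have e1 := Submodule.finrank_sup_add_finrank_inf_eq U (perp Q (Submodule.span F {y}))
        have e2 := hQ.finrank_perp_singleton hy0
        have e3 := Submodule.finrank_le (U ⊔ perp Q (Submodule.span F {y}))
        omega
      have hmap := Submodule.eq_of_le_of_finrank_le hle (by rw [LinearEquiv.finrank_map_eq, hd]; exact h3)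
      have : (⟨p, hgy⟩ : W) = 0 := hW ⟨p, hgy⟩ fun w => by
        obtain ⟨x, hx, hxw⟩ := (hmap.ge w.2 : (w : V) ∈ (U ⊓ perp Q (Submodule.span F {y})).map _)
        rw [polar_restr]
        change polar Q p (w : V) = 0
        rw [← hxw, LinearEquiv.coe_coe, hp, O.polar_app]
        exact (mem_perp_span_singleton Q).1 hx.2
      exact hp0 (congrArg Subtype.val this)
    obtain ⟨w, hw, q, hq, hwq⟩ := hdec ((g : V ≃ₗ[F] V) x)
    have hw0 : w ≠ 0 := fun e => hgx (by rw [hwq, e, zero_add]; exact hq)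
    have hpw : SIn X p w := by
      have h1 := hconj hy hxU hQy hxy
      have hpq : polar Q p q = 0 := by
        have := h1.orth
        rwa [hwq, polar_add_right, polar_comm (⇑Q) p w, hUW hw hgy, zero_add] at this
      exact (h1.sub ⟨hQp, hpq, hroot _ _ hQp hpq (Or.inr ⟨hgy, hq⟩)⟩).congr rfl
        (by rw [hwq, add_sub_cancel_right])
    obtain ⟨u, hu, hu0, hQu⟩ := hcommon (U ⊓ perp Q (Submodule.span F {w})) inf_le_left (by
        have e1 := Submodule.finrank_sup_add_finrank_inf_eq U (perp Q (Submodule.span F {w}))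
        have e2 := hQ.finrank_perp_singleton hw0
        have e3 := Submodule.finrank_le (U ⊔ perp Q (Submodule.span F {w}))
        omega)
    have hwu : polar Q w u = 0 := (mem_perp_span_singleton Q).1 hu.2
    have hpu : polar Q p u = 0 := by rw [polar_comm]; exact hUW hu.1 hgy
    have key : ∀ t : F, t ≠ 0 → ¬ SIn X p (t • u) := by
      intro t ht h
      have h' := h.swap hQu hpu
      exact hp0 (hdisj p ((Submodule.smul_mem_iff _ (neg_ne_zero.2 ht)).1 (hno hu.1 hu0 hQu h')) hgy)
    by_cases hwsp : w ∈ Submodule.span F {u}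
    · obtain ⟨t, rfl⟩ := Submodule.mem_span_singleton.1 hwsp
      exact key t (fun e => hw0 (by rw [e, zero_smul])) hpw
    obtain ⟨b', hb', hub', hbw⟩ : ∃ b' ∈ U, polar Q u b' = 0 ∧ polar Q w b' ≠ 0 := by
      obtain ⟨x', hx', hxl, hwx⟩ := exists_sep hQ hW (L := Submodule.span F {u}) (by simpa using hu.1) hw hwsp
      exact ⟨x', hx', hxl u (Submodule.mem_span_singleton_self u), hwx⟩
    obtain ⟨_, _, hm⟩ := hsU hu.1 hb' hQu hub'
    have h1 := ((hpw.conj hm).congr (sie_fix' _ _ (by rw [polar_comm]; exact hpu) (hUW hb' hgy)) rfl).sub hpw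
    refine key _ hbw (h1.congr rfl ?_)
    rw [sie_app, polar_comm (⇑Q) u w, hwu, polar_comm (⇑Q) b' w]
    module
  -- either a line perpendicular to the centre goes into the four-space, or the projection is small
  set K := U ⊓ W.comap ((g : V ≃ₗ[F] V) : V →ₗ[F] V) with hK
  set M := U ⊓ U.comap ((g : V ≃ₗ[F] V) : V →ₗ[F] V) with hM
  have hKM : finrank F K + finrank F M ≤ 4 := by
    have h1 := Submodule.finrank_sup_add_finrank_inf_eq K M
    have h3 : K ⊓ M = ⊥ := (Submodule.eq_bot_iff _).2 fun x hx =>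
      (g : V ≃ₗ[F] V).map_eq_zero_iff.1 (hdisj _ hx.2.2 hx.1.2)
    rw [h3, finrank_bot] at h1
    have := (Submodule.finrank_mono (sup_le inf_le_left inf_le_left : K ⊔ M ≤ U))
    omega
  have hcase : ∀ y ∈ U, y ≠ 0 → Q y = 0 →
      (3 ≤ finrank F M ∧ (g : V ≃ₗ[F] V) y ∈ U) ∨ 2 ≤ finrank F ↥(K ⊓ perp Q (Submodule.span F {y})) := by
    intro y hy hy0 hQy
    set Y := U ⊓ perp Q (Submodule.span F {y}) with hY
    have hY3 : 3 ≤ finrank F Y := by
      have e1 := Submodule.finrank_sup_add_finrank_inf_eq U (perp Q (Submodule.span F {y}))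
      have e2 := hQ.finrank_perp_singleton hy0
      have e3 := Submodule.finrank_le (U ⊔ perp Q (Submodule.span F {y}))
      rw [← hY] at e1
      omega
    have hyY : y ∈ Y := ⟨hy, (mem_perp_span_singleton Q).2 (by rw [polar_self', hQy, mul_zero])⟩
    set p := (g : V ≃ₗ[F] V) y with hp
    have hQp : Q p = 0 := by rw [hp, O.map_app]; exact hQy
    by_cases hpU : p ∈ U
    · refine Or.inl ⟨hY3.trans (Submodule.finrank_mono fun x hx => ?_), hpU⟩
      refine ⟨hx.1, ?_⟩
      exact hno hpU (fun e => hy0 ((g : V ≃ₗ[F] V).map_eq_zero_iff.1 e)) hQp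
        (hconj hy hx.1 hQy ((mem_perp_span_singleton Q).1 hx.2))
    obtain ⟨pW, hpW, pU, hpU', hpe⟩ := hdec p
    have hpW0 : pW ≠ 0 := fun e => hC y hy hy0 hQy (by rw [← hp, hpe, e, zero_add]; exact hpU')
    -- the vectors seen from the centre
    have hsee : ∀ x ∈ Y, ∀ u ∈ U, u ≠ 0 → Q u = 0 → polar Q u pW = 0 → ∀ b ∈ U, polar Q u b = 0 →
        polar Q b pW = 0 → Q b ≠ 0 →
        polar Q ((g : V ≃ₗ[F] V) x) u = 0 ∧ polar Q ((g : V ≃ₗ[F] V) x) b = 0 := by
      intro x hx u hu hu0 hQu hup b hb hub hbp hQb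
      have e1 : ∀ {z : V}, z ∈ U → polar Q z p = polar Q z pW := fun hz => by
        rw [hpe, polar_add_right, hUW hz hpU', add_zero]
      obtain ⟨hl, hl'⟩ := sIn_long (hsU hu hb hQu hub)
        (hconj hy hx.1 hQy ((mem_perp_span_singleton Q).1 hx.2)) (by rw [← hp, e1 hu]; exact hup)
        (by rw [← hp, e1 hb]; exact hbp)
      by_cases hγ : polar Q ((g : V ≃ₗ[F] V) x) u = 0
      · refine ⟨hγ, by_contra fun hδ => hpU ?_⟩
        exact (Submodule.smul_mem_iff _ hδ).1 (hno hu hu0 hQu (hl' hγ))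
      · exfalso
        refine hpU ((Submodule.smul_mem_iff _ ?_).1 (hno hu hu0 hQu (hl hγ)))
        exact mul_ne_zero (neg_ne_zero.2 (mul_ne_zero h2 hQb)) hγ
    -- so the projection of the hyperplane lies on one line
    have hproj : ∀ x ∈ Y, ∃ t : F, (g : V ≃ₗ[F] V) x - t • p ∈ W := by
      intro x hx
      obtain ⟨cW, hcW, cU, hcU, hce⟩ := hdec ((g : V ≃ₗ[F] V) x)
      have hcz : ∀ {z : V}, z ∈ U → polar Q ((g : V ≃ₗ[F] V) x) z = polar Q cW z := fun hz => by
        rw [hce, polar_add_left, polar_comm (⇑Q) cU, hUW hz hcU, add_zero]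
      set N := U ⊓ perp Q (Submodule.span F {pW}) with hN
      have hN3 : finrank F N = 3 := by
        refine le_antisymm ?_ ?_
        · have hlt : N < U := lt_of_le_of_ne inf_le_left fun e => hpW0 (by
            have : (⟨pW, hpW⟩ : U) = 0 := hU ⟨pW, hpW⟩ fun z => by
              rw [polar_restr]; exact (mem_perp_span_singleton Q).1 ((e.symm ▸ z.2 : (z : V) ∈ N)).2
            exact congrArg Subtype.val this)
          have := Submodule.finrank_lt_finrank_of_lt hlt
          omega
        · have e1 := Submodule.finrank_sup_add_finrank_inf_eq U (perp Q (Submodule.span F {pW}))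
          have e2 := hQ.finrank_perp_singleton hpW0
          have e3 := Submodule.finrank_le (U ⊔ perp Q (Submodule.span F {pW}))
          rw [← hN] at e1
          omega
      have hcN : ∀ z ∈ N, polar Q cW z = 0 := by
        let Z : Submodule F V :=
          { carrier := {z | polar Q cW z = 0}
            add_mem' := fun {a b} ha hb => by
              show polar Q cW (a + b) = 0
              rw [polar_add_right, ha, hb, add_zero]
            zero_mem' := polar_zero_right ..
            smul_mem' := fun t a ha => by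
              show polar Q cW (t • a) = 0
              rw [polar_smul_right', ha, mul_zero] }
        suffices hNZ : N ≤ Z from fun z hz => hNZ hz
        by_cases hQpW : Q pW = 0
        · intro z hz
          have hzp := (mem_perp_span_singleton Q).1 hz.2
          have haniso : ∀ b ∈ N, Q b ≠ 0 → polar Q cW pW = 0 ∧ b ∈ Z := by
            intro b hb hQb
            have hbp : polar Q pW b = 0 := (mem_perp_span_singleton Q).1 hb.2
            obtain ⟨h1, h3⟩ := hsee x hx pW hpW hpW0 hQpW (by rw [polar_self', hQpW, mul_zero]) b hb.1 hbp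
              (by rw [polar_comm]; exact hbp) hQb
            rw [hcz hpW] at h1
            rw [hcz hb.1] at h3
            exact ⟨h1, h3⟩
          obtain ⟨b₀, hb₀, hQb₀⟩ : ∃ b ∈ N, Q b ≠ 0 := by
            by_contra hcon
            push Not at hcon
            let N' := N.comap U.subtype
            have hTS : TotSing (restr Q U) N' := fun w hw => by rw [restr_apply]; exact hcon _ hw
            have h1 := hTS.two_mul_finrank_le hU
            have h3 := (Submodule.comapSubtypeEquivOfLe (inf_le_left : N ≤ U)).finrank_eq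
            rw [h3, hN3, hdU] at h1
            omega
          by_cases hQz : Q z = 0
          · by_cases hQs : Q (b₀ + z) = 0
            · have hm : b₀ - z ∈ Z := by
                refine (haniso _ (N.sub_mem hb₀ hz) fun e => hQb₀ ?_).2
                rw [qmap_sub, hQz] at e
                rw [map_add_polar, hQz] at hQs
                exact (mul_eq_zero.1 (show (2 : F) * Q b₀ = 0 by linear_combination e + hQs)).resolve_left h2
              have := Z.sub_mem (haniso _ hb₀ hQb₀).2 hm
              simpa using this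
            · simpa using Z.sub_mem (haniso _ (N.add_mem hb₀ hz) hQs).2 (haniso _ hb₀ hQb₀).2
          · exact (haniso z hz hQz).2
        · have hspan : Nondeg (restr Q (Submodule.span F {pW})) := by
            rw [nondeg_restr_iff]
            refine eq_bot_iff.2 fun v hv => (Submodule.mem_bot _).2 ?_
            obtain ⟨s, rfl⟩ := Submodule.mem_span_singleton.1 hv.1
            have h := (mem_perp_span_singleton Q).1 hv.2
            rw [polar_smul_right', polar_self'] at h
            rw [(mul_eq_zero.1 h).resolve_right (mul_ne_zero h2 hQpW), zero_smul]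
          obtain ⟨hNn, -, -⟩ := hQ.nondeg_inf_perp hU hspan (by rwa [Submodule.span_singleton_le_iff_mem])
          refine le_of_singular hNn (by rw [← hN, hN3]) Z fun u hu hQu => ?_
          rcases eq_or_ne u 0 with rfl | hu0
          · exact Z.zero_mem
          have hup : polar Q u pW = 0 := by rw [polar_comm]; exact (mem_perp_span_singleton Q).1 hu.2
          obtain ⟨z, hzU, hzu, hzp⟩ : ∃ b ∈ U, polar Q u b = 0 ∧ polar Q b pW = 0 ∧ Q b ≠ 0 := by
            by_contra hcon
            push Not at hcon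
            obtain ⟨⟨v, hv⟩, hv1⟩ := hNn.exists_polar_eq (x := ⟨u, hu⟩) (fun e => hu0 (congrArg Subtype.val e)) 1
            rw [polar_restr] at hv1
            -- the radical of `u` in `N` is not totally singular
            set N1 := N ⊓ perp Q (Submodule.span F {u}) with hN1
            have hTS : TotSing (restr Q N) (N1.comap N.subtype) := fun w hw => by
              rw [restr_apply]
              exact hcon _ w.2.1 ((mem_perp_span_singleton Q).1 hw.2)
                (by rw [polar_comm]; exact (mem_perp_span_singleton Q).1 w.2.2)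
            have h1 := hTS.two_mul_finrank_le hNn
            have h3 := (Submodule.comapSubtypeEquivOfLe (inf_le_left : N1 ≤ N)).finrank_eq
            have e1 := Submodule.finrank_sup_add_finrank_inf_eq N (perp Q (Submodule.span F {u}))
            have e2 := hQ.finrank_perp_singleton hu0
            have e3 := Submodule.finrank_le (N ⊔ perp Q (Submodule.span F {u}))
            have h1' : 2 * finrank F ↥(N1.comap N.subtype) ≤ finrank F ↥N := h1
            have e1' : finrank F ↥(N ⊔ perp Q (Submodule.span F {u})) + finrank F ↥N1 =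
                finrank F ↥N + finrank F ↥(perp Q (Submodule.span F {u})) := e1
            have hN3' : finrank F ↥N = 3 := hN3
            have h3' : finrank F ↥(N1.comap N.subtype) = finrank F ↥N1 := h3
            omega
          obtain ⟨hbp, hQb⟩ := hzp
          have := (hsee x hx u hu.1 hu0 hQu hup z hzU hzu hbp hQb).1
          rwa [hcz hu.1] at this
      obtain ⟨z, hz⟩ : ∃ t : F, cW = t • pW := by
        by_contra hcon
        push Not at hcon
        obtain ⟨x', hx', hxl, hcx⟩ := exists_sep hQ hW (L := Submodule.span F {pW}) (by simpa using hpW) hcW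
          fun hm => by obtain ⟨t, ht⟩ := Submodule.mem_span_singleton.1 hm; exact hcon t ht.symm
        exact hcx (hcN x' ⟨hx', (mem_perp_span_singleton Q).2 (hxl pW (Submodule.mem_span_singleton_self pW))⟩)
      refine ⟨z, ?_⟩
      have e : (g : V ≃ₗ[F] V) x - z • p = cU - z • pU := by rw [hce, hpe, hz]; module
      rw [e]
      exact W.sub_mem hcU (W.smul_mem _ hpU')
    refine Or.inr ?_
    have hle : Y ≤ Submodule.span F {y} ⊔ (K ⊓ perp Q (Submodule.span F {y})) := fun x hx => by
      obtain ⟨t, ht⟩ := hproj x hx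
      refine Submodule.mem_sup.2 ⟨t • y, Submodule.smul_mem _ _ (Submodule.mem_span_singleton_self y), x - t • y,
        ⟨⟨U.sub_mem hx.1 (U.smul_mem _ hy), ?_⟩, Submodule.sub_mem _ hx.2 (Submodule.smul_mem _ _ hyY.2)⟩,
        add_sub_cancel _ _⟩
      rw [SetLike.mem_coe, Submodule.mem_comap, LinearEquiv.coe_coe, map_sub, map_smul]
      exact ht
    have h1 := (Submodule.finrank_mono hle).trans (Submodule.finrank_add_le_finrank_add_finrank _ _)
    rw [finrank_span_singleton hy0] at h1
    omega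
  have hKa : ∀ t ∈ K, t ≠ 0 → Q t ≠ 0 := fun t ht ht0 hQt => hC t ht.1 ht0 hQt ht.2
  by_cases hA : ∀ y ∈ U, y ≠ 0 → Q y = 0 → (g : V ≃ₗ[F] V) y ∈ U
  · have hUU : ∀ z ∈ U, (g : V ≃ₗ[F] V) z ∈ U := fun z hz =>
      le_of_singular hU (by omega) (U.comap ((g : V ≃ₗ[F] V) : V →ₗ[F] V)) (fun y hy hQy => by
        rcases eq_or_ne y 0 with rfl | hy0
        · exact Submodule.zero_mem _
        · exact hA y hy hy0 hQy) hz
    obtain ⟨v₀, hv₀, hv₀'⟩ := hgW
    have := perp_invariant g hUU
    rw [hUdef, hQ.perp_perp] at this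
    exact hv₀' (this v₀ hv₀)
  push Not at hA
  obtain ⟨y₀, hy₀, hy₀0, hQy₀, hgy₀⟩ := hA
  have hK2 : 2 ≤ finrank F K :=
    (((hcase y₀ hy₀ hy₀0 hQy₀).resolve_left fun h => hgy₀ h.2).trans (Submodule.finrank_mono inf_le_left))
  have hK2' : finrank F K = 2 := by
    refine le_antisymm ?_ hK2
    by_contra h3
    obtain ⟨t, ht, ht0, hQt⟩ := hcommon K inf_le_left (by omega)
    exact hKa t ht ht0 hQt
  obtain ⟨k, hk, hk0⟩ := Submodule.exists_mem_ne_zero_of_ne_bot (p := K) fun e => by
    rw [e, finrank_bot] at hK2'; omega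
  have hperp : U ≤ perp Q (Submodule.span F {k}) := le_of_singular hU (by omega) _ fun y hy hQy => by
    rcases eq_or_ne y 0 with rfl | hy0
    · exact Submodule.zero_mem _
    rcases hcase y hy hy0 hQy with h | h
    · omega
    have hkY : k ∈ K ⊓ perp Q (Submodule.span F {y}) :=
      (Submodule.eq_of_le_of_finrank_le inf_le_left (by omega)).ge hk
    rw [mem_perp_span_singleton, polar_comm]
    exact (mem_perp_span_singleton Q).1 hkY.2
  have : (⟨k, hk.1⟩ : U) = 0 := hU ⟨k, hk.1⟩ fun z => by
    rw [polar_restr]; exact (mem_perp_span_singleton Q).1 (hperp z.2)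
  exact hk0 (congrArg Subtype.val this)

/-- An overgroup of the stabiliser of a three-space of a seven-space is everything. -/
theorem sieGroup_le_of_three (hQ : Nondeg Q) (h2 : (2 : F) ≠ 0) (hn7 : finrank F V = 7) (hW : Nondeg (restr Q W))
    (hd3 : finrank F W = 3) (hX : ∀ x ∈ commutator (O Q), (∀ v ∈ W, (x : V ≃ₗ[F] V) v ∈ W) → x ∈ X)
    (hg : ∃ g ∈ X, ∃ v ∈ W, (g : V ≃ₗ[F] V) v ∉ W) : sieGroup Q ≤ X := by
  have hn : 5 ≤ finrank F V := by omega
  have hex : finrank F W = 2 → (∃ x ∈ W, x ≠ 0 ∧ Q x = 0) → 4 ≤ Fintype.card F := fun h => by omega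
  set U := perp Q W with hUdef
  have hd : finrank F U = 4 := by have := hQ.finrank_add_perp W; rw [← hUdef] at this; omega
  have hU : Nondeg (restr Q U) := hQ.nondeg_perp hW
  have hperpU : perp Q U = W := hQ.perp_perp W
  have hdec : ∀ z : V, ∃ p ∈ U, ∃ q ∈ W, z = p + q := fun z => by
    obtain ⟨q, hq, p, hp, hqp⟩ := Submodule.mem_sup.1
      ((hQ.isCompl_perp hW).sup_eq_top ▸ Submodule.mem_top : z ∈ W ⊔ perp Q W)
    exact ⟨p, hp, q, hq, by rw [← hqp, add_comm]⟩
  have hcomm : ∀ u w (hu : Q u = 0) (hw : polar Q u w = 0), sie u w hu hw ∈ commutator (O Q) :=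
    fun u w hu hw => by rw [← sieGroup_eq_commutator hQ hn]; exact sie_mem hu hw
  have hfixX : ∀ x ∈ commutator (O Q), (∀ v ∈ W, (x : V ≃ₗ[F] V) v = v) → x ∈ X := fun x hx h =>
    hX x hx fun v hv => by rw [h v hv]; exact hv
  have hWU : ∀ {z v : V}, z ∈ U → v ∈ W → polar Q z v = 0 := fun hz hv => by
    rw [polar_comm]; exact hz _ hv
  have hUroot : ∀ u w (hu : Q u = 0) (hw : polar Q u w = 0), u ∈ U → w ∈ U → sie u w hu hw ∈ X :=
    fun u w hu hw huU hwU => hfixX _ (hcomm u w hu hw) fun v hv =>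
      sie_fix' hu hw (hWU huU hv) (hWU hwU hv)
  have hroots : ∀ u w (hu : Q u = 0) (hw : polar Q u w = 0),
      (u ∈ U ∧ w ∈ U) ∨ (u ∈ W ∧ w ∈ W) → sie u w hu hw ∈ X := by
    rintro u w hu hw (⟨h1, h2⟩ | ⟨h1, h2⟩)
    · exact hUroot u w hu hw h1 h2
    · exact hX _ (hcomm u w hu hw) fun v hv => by
        rw [sie_app]; exact W.sub_mem (W.add_mem hv (W.smul_mem _ h1)) (W.smul_mem _ h2)
  obtain ⟨g, hgX, hgW⟩ := hg
  obtain ⟨u, huU, hu0, hu, b₀, hb₀, hb₀0, hu', hub₀, hroot⟩ :=
    exists_root_out_seven hQ h2 hn7 hW hd3 hroots hgX hgW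
  obtain ⟨f', hf', huf'⟩ := hU.exists_partner (u := ⟨u, huU⟩) (fun h => hu0 (congrArg Subtype.val h)) hu
  rw [polar_restr] at huf'
  rw [restr_apply] at hf'
  obtain ⟨f, hfU, hf, huf⟩ : ∃ f ∈ U, Q f = 0 ∧ polar Q u f = 1 := ⟨f', f'.2, hf', huf'⟩
  have hub : ∀ {y : V}, y ∈ W → polar Q u y = 0 := fun hy => hWU huU hy
  -- all of `W` is admissible
  let T : Submodule F W :=
    { carrier := {y | ∀ (c : F) (hw : polar Q u (c • (y : V)) = 0), sie u (c • (y : V)) hu hw ∈ X}
      zero_mem' := fun c hw => by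
        convert X.one_mem
        exact O.ext_app fun x => by rw [sie_app]; simp
      add_mem' := fun {y y'} hy hy' c hw => by
        have := X.mul_mem (hy c (hub (W.smul_mem c y.2))) (hy' c (hub (W.smul_mem c y'.2)))
        rw [sie_mul] at this
        convert this using 1
        exact sie_congr _ _ _ _ rfl (by rw [Submodule.coe_add, smul_add])
      smul_mem' := fun s y hy c hw => by
        convert hy (c * s) (hub (W.smul_mem _ y.2)) using 1
        exact sie_congr _ _ _ _ rfl (by rw [Submodule.coe_smul, smul_smul]) }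
  have hT0 : (⟨b₀, hb₀⟩ : W) ∈ T := by
    intro c hw
    rcases eq_or_ne c 0 with rfl | hc
    · convert X.one_mem
      exact O.ext_app fun x => by rw [sie_app]; simp
    obtain ⟨t, ht, htu, htW⟩ := exists_torus hQ hU (by omega) huU hfU hu hf huf hc
    rw [hperpU] at htW
    have h := X.mul_mem (X.mul_mem (hfixX t ht htW) hroot) (X.inv_mem (hfixX t ht htW))
    rw [sie_conj, sie_congr _ _ (by rw [qmap_smul, hu, mul_zero]) (by rw [polar_smul_left', hub hb₀, mul_zero])
      htu (htW b₀ hb₀), sie_smul hu (hub hb₀)] at h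
    exact h
  have hinv : ∀ h ∈ commutator (O Q), (h : V ≃ₗ[F] V) u = u → ∀ hh : ∀ v ∈ W, (h : V ≃ₗ[F] V) v ∈ W,
      ∀ y ∈ T, (⟨(h : V ≃ₗ[F] V) (y : W), hh _ (y : W).2⟩ : W) ∈ T := by
    intro h hhc hhu hh y hy c hw
    have hX' := hX h hhc hh
    have := X.mul_mem (X.mul_mem hX' (hy c (hub (W.smul_mem c y.2)))) (X.inv_mem hX')
    rw [sie_conj] at this
    convert this using 1
    exact sie_congr _ _ _ _ hhu.symm (map_smul _ _ _).symm
  have hTtop : T = ⊤ := by
    refine eq_top_of_invariant hW T (fun h => hb₀0 ?_) (fun h2 hx => ?_) ?_ ?_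
    · exact congrArg Subtype.val ((Submodule.mem_bot F).1 (h ▸ hT0) : (⟨b₀, hb₀⟩ : W) = 0)
    · obtain ⟨x, hx0, hx⟩ := hx
      exact hex h2 ⟨x, x.2, fun h => hx0 (Subtype.ext h), hx⟩
    · intro a' y ha' hy
      rw [restr_apply] at ha'
      obtain ⟨c, hcU, hcu, -, hc⟩ := exists_mid hU (by omega) huU hfU hu hf huf (Q (a' : V))
      have hc1 : ∀ v ∈ W, (rO Q (a' : V) * rO Q c : O Q).1 v =
          v - ((Q (a' : V))⁻¹ * polar Q (a' : V) v) • (a' : V) := fun v hv => by
        rw [Subgroup.coe_mul, mul_app, rO_fix (v := c) (x := v) (hWU hcU hv), rO_app]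
      have := hinv _ (rO_mul_mem hQ ha' hc) (by
        rw [Subgroup.coe_mul, mul_app, rO_fix (v := c) (by rw [polar_comm]; exact hcu),
          rO_fix (v := (a' : V)) (by rw [polar_comm]; exact hub a'.2)])
        (fun v hv => by rw [hc1 v hv]; exact W.sub_mem hv (W.smul_mem _ a'.2)) y hy
      convert this using 1
      refine Subtype.ext ?_
      rw [Submodule.coe_sub, Submodule.coe_smul, polar_restr, restr_apply]
      exact (hc1 _ y.2).symm
    · intro x y' y hx hxy hy
      rw [restr_apply] at hx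
      rw [polar_restr] at hxy
      have := hinv (sie (x : V) (y' : V) hx hxy) (hcomm _ _ hx hxy)
        (sie_fix' hx hxy (by rw [polar_comm]; exact hub x.2) (by rw [polar_comm]; exact hub y'.2))
        (fun v hv => by rw [sie_app]; exact W.sub_mem (W.add_mem hv (W.smul_mem _ x.2)) (W.smul_mem _ y'.2)) y hy
      convert this using 1
      refine Subtype.ext ?_
      simp only [sie_app, Submodule.coe_sub, Submodule.coe_add, Submodule.coe_smul, polar_restr, restr_apply]
  have hfull : Full X u := fun w _ hw => by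
    obtain ⟨p', hp', q', hq', hpq⟩ := hdec w
    have hup' : polar Q u p' = 0 := by
      rw [hpq, polar_add_right, hub hq', add_zero] at hw
      exact hw
    have h1 : sie u q' hu (hub hq') ∈ X := by
      have := (hTtop ▸ Submodule.mem_top : (⟨q', hq'⟩ : W) ∈ T) 1 (by rw [one_smul]; exact hub hq')
      convert this using 1
      exact sie_congr _ _ _ _ rfl (one_smul F q').symm
    have := X.mul_mem (hUroot u p' hu hup' huU hp') h1
    rw [sie_mul] at this
    convert this using 1
    exact sie_congr _ _ _ _ rfl hpq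
  -- a second centre
  obtain ⟨w₂, hw₂U, hw₂u, hw₂f, hw₂⟩ := exists_mid hU (by omega) huU hfU hu hf huf 1
  have hmem₂ := hUroot f w₂ hf hw₂f hfU hw₂U
  refine sieGroup_le_of_pair hQ (by omega) hfull (hfull.map hmem₂) hu (by rw [O.map_app]; exact hu) ?_
  rw [sie_app, hw₂, polar_comm (⇑Q) f u, huf, polar_comm (⇑Q) w₂ u, hw₂u, polar_sub_right, polar_add_right,
    polar_smul_right', polar_smul_right', polar_self', hu, huf, hw₂u]
  norm_num

end Abstract

variable {F : Type*} [Field F] [Fintype F] {ι : Type} [Fintype ι] [DecidableEq ι] {Q : QuadraticForm F (ι → F)}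

/-- Nondegenerate three-spaces of a seven-space, equivalently their four-dimensional orthogonals. -/
theorem isMaximalIn_three (hQ : Nondeg Q) (h2 : (2 : F) ≠ 0) (hn : finrank F (ι → F) = 7)
    {W : Submodule F (ι → F)} (hW : Nondeg (restr Q W)) (hd : finrank F W = 3) :
    Cfsg.Geo.IsMaximalIn (Cfsg.Geo.omegaGL ⇑Q) (Cfsg.Geo.subspaceStabilizer W ⊓ Cfsg.Geo.omegaGL ⇑Q) := by
  refine isMaximalIn_omega hQ (by omega) _ ?_ fun X hX hg => ?_
  · have hdp := hQ.finrank_add_perp W
    have hW0 : W ≠ ⊥ := fun e => by rw [e, finrank_bot] at hd; omega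
    obtain ⟨u, hu0, hu⟩ := (hQ.nondeg_perp hW).exists_singular (by omega)
    rw [restr_apply] at hu
    obtain ⟨b, hb, hb0⟩ := (Submodule.ne_bot_iff W).1 hW0
    obtain ⟨x, hx⟩ := hW.exists_polar_eq (x := ⟨b, hb⟩) (fun h => hb0 (congrArg Subtype.val h)) 1
    rw [polar_restr] at hx
    have hub : polar Q (u : ι → F) b = 0 := (polar_comm (⇑Q) (u : ι → F) b).trans (u.2 b hb)
    have hux : polar Q (u : ι → F) x = 0 := (polar_comm (⇑Q) (u : ι → F) x).trans (u.2 x x.2)
    refine ⟨sie (u : ι → F) b hu hub, sie_mem_commutator hQ (by omega) hu hub, fun hmem => ?_⟩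
    have h1 := ((H96.mem_subspaceStabilizer_om Q W _).1 hmem x).1 x.2
    rw [sie_app, hx, hux, mul_zero, sub_zero, one_smul, zero_smul, sub_zero, W.add_mem_iff_right x.2] at h1
    have : (u : ι → F) ∈ W ⊓ perp Q W := ⟨h1, u.2⟩
    rw [(nondeg_restr_iff W).1 hW, Submodule.mem_bot] at this
    exact hu0 (Subtype.ext this)
  refine sieGroup_le_of_three hQ h2 hn hW hd (fun x hx h => hX x hx ?_) ?_
  · exact (H96.mem_subspaceStabilizer_om Q W x).2 fun v => stab_iff_of_le x h v
  · obtain ⟨g, hg, hgS⟩ := hg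
    refine ⟨g, hg, ?_⟩
    by_contra hc
    push Not at hc
    exact hgS ((H96.mem_subspaceStabilizer_om Q W g).2 fun v => stab_iff_of_le g hc v)

end Cfsg.Agent.H85.OmegaSeven
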